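import Groth.Agent.Etdl.H153.Sec
import Groth.Agent.Etrest.BigEtDescent
import Groth.Prelude.Def_EtDlF
import Mathlib.AlgebraicGeometry.AlgClosed.Basic

/-!
# Subsheaves of constant sheaves generated by a section over a `k`-scheme of finite type

`exists_iso_constF`: let `k` be algebraically closed, `Q ⟶ constF N` a monomorphism of abelian fppf sheaves over
`Spec k`, and assume that `Q` is generated by a section over a scheme `X` locally of finite type over `k`.
Then `Q` is a constant sheaf `constF C`, `C ≤ N`.
-/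

set_option autoImplicit false
universe u
open CategoryTheory CategoryTheory.Limits AlgebraicGeometry Opposite

namespace Groth.Agent.Etdl.H153.ConstSub

open Groth.Agent.Etrest.BigEtSite Groth.Agent.Etdl.H153

section Cst

variable {S : Scheme.{u}} (N : Type) [AddCommGroup N]

/-- The constant presheaf. -/
noncomputable abbrev cP (S : Scheme.{u}) : (Over S)ᵒᵖ ⥤ AddCommGrpCat.{u + 1} :=
  (Functor.const _).obj (AddCommGrpCat.of (ULift.{u + 1} N))

/-- The unit of sheafification. -/
noncomputable abbrev cU (S : Scheme.{u}) : cP N S ⟶ (EtDl.constF S N).obj := toSheafify (EtFppf.J S) (cP N S)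

/-- The constant section with value `m`. -/
noncomputable def cst (T : Over S) : N →+ (EtDl.constF S N).obj.obj (op T) :=
  ((cU N S).app (op T)).hom.comp AddEquiv.ulift.symm.toAddMonoidHom

theorem map_cst {T T' : Over S} (g : T' ⟶ T) (m : N) :
    (EtDl.constF S N).obj.map g.op (cst N T m) = cst N T' m := by
  have := congr($((cU N S).naturality g.op) (ULift.up m))
  rw [ConcreteCategory.comp_apply, ConcreteCategory.comp_apply] at this
  exact this.symm

/-- Sections of the constant sheaf are locally constant. -/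
theorem exists_cst {T : Over S} (s : (EtDl.constF S N).obj.obj (op T)) (x : T.left) :
    ∃ (T' : Over S) (g : T' ⟶ T) (m : N), Flat g.left ∧ LocallyOfFinitePresentation g.left ∧
      x ∈ Set.range g.left ∧ (EtDl.constF S N).obj.map g.op s = cst N T' m := by
  have h0 : (EtFppf.J S).W (cU N S) := (EtFppf.J S).W_toSheafify _
  have h1 : Presheaf.IsLocallySurjective (EtFppf.J S) (cU N S) :=
    ((GrothendieckTopology.W_iff_isLocallyBijective _ _).1 h0).2
  have h2 := h1.imageSieve_mem s
  rw [mem_J_iff] at h2
  obtain ⟨T', g, ⟨t, ht⟩, h3, h4, h5⟩ := h2 x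
  refine ⟨T', g, t.down, h3, h4, h5, ?_⟩
  exact ht.symm

/-- `cst m = 0` on a nonempty scheme implies `m = 0`. -/
theorem cst_eq_zero {T : Over S} (x : T.left) (m : N) (h : cst N T m = 0) : m = 0 := by
  have h0 : (EtFppf.J S).W (cU N S) := (EtFppf.J S).W_toSheafify _
  have h1 : Presheaf.IsLocallyInjective (EtFppf.J S) (cU N S) :=
    ((GrothendieckTopology.W_iff_isLocallyBijective _ _).1 h0).1
  have h2 := h1.equalizerSieve_mem (X := op T) (ULift.up m : (cP N S).obj (op T)) (ULift.up 0) (by
    refine Eq.trans h ?_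
    exact (map_zero ((cU N S).app (op T)).hom).symm)
  rw [mem_J_iff] at h2
  obtain ⟨T', g, h3, -, -, -⟩ := h2 x
  exact congrArg ULift.down h3

/-- Sections of an fppf sheaf which agree fppf-locally are equal. -/
theorem sheaf_ext (F : EtFppf.AbF S) {T : Over S} (s s' : F.obj.obj (op T))
    (H : ∀ x : T.left, ∃ (T' : Over S) (g : T' ⟶ T), Flat g.left ∧ LocallyOfFinitePresentation g.left ∧
      x ∈ Set.range g.left ∧ F.obj.map g.op s = F.obj.map g.op s') : s = s' := by
  let R : Sieve T :=
    { arrows := fun T' g => F.obj.map g.op s = F.obj.map g.op s'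
      downward_closed := by
        intro T' T'' g hg f
        rw [op_comp, Functor.map_comp, ConcreteCategory.comp_apply, ConcreteCategory.comp_apply, hg] }
  have hR : R ∈ EtFppf.J S T := by
    rw [mem_J_iff]
    intro x
    obtain ⟨T', g, h1, h2, h3, h4⟩ := H x
    exact ⟨T', g, h4, h1, h2, h3⟩
  have hs := (isSheaf_iff_isSheaf_of_type _ _).1
    (Presheaf.isSheaf_comp_of_isSheaf (EtFppf.J S) F.obj (forget AddCommGrpCat.{u + 1}) F.property)
  exact (hs.isSeparated _ hR).ext (fun T' g hg => hg)

/-- The morphism out of a constant sheaf attached to global sections. -/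
noncomputable def ofGlobal (Q : EtFppf.AbF S) (γ : N →+ Q.obj.obj (op (Over.mk (𝟙 S)))) :
    EtDl.constF S N ⟶ Q :=
  ⟨sheafifyLift (EtFppf.J S)
    { app := fun T => AddCommGrpCat.ofHom
        (((Q.obj.map ((Over.mkIdTerminal (X := S)).from T.unop).op).hom.comp γ).comp
          AddEquiv.ulift.toAddMonoidHom)
      naturality := by
        intro T T' g
        ext m
        have : (Over.mkIdTerminal (X := S)).from T'.unop = g.unop ≫ (Over.mkIdTerminal (X := S)).from T.unop :=
          (Over.mkIdTerminal (X := S)).hom_ext _ _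
        dsimp
        rw [this, op_comp, Functor.map_comp]
        rfl } Q.property⟩

theorem ofGlobal_cst (Q : EtFppf.AbF S) (γ : N →+ Q.obj.obj (op (Over.mk (𝟙 S)))) (T : Over S) (m : N) :
    (ofGlobal N Q γ).hom.app (op T) (cst N T m) =
      Q.obj.map ((Over.mkIdTerminal (X := S)).from T).op (γ m) := by
  have h := toSheafify_sheafifyLift (EtFppf.J S) (P := cP N S)
    { app := fun T => AddCommGrpCat.ofHom
        (((Q.obj.map ((Over.mkIdTerminal (X := S)).from T.unop).op).hom.comp γ).comp
          AddEquiv.ulift.toAddMonoidHom)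
      naturality := by
        intro T T' g
        ext m
        have : (Over.mkIdTerminal (X := S)).from T'.unop = g.unop ≫ (Over.mkIdTerminal (X := S)).from T.unop :=
          (Over.mkIdTerminal (X := S)).hom_ext _ _
        dsimp
        rw [this, op_comp, Functor.map_comp]
        rfl } Q.property
  exact congr(($h).app (op T) (ULift.up m))

end Cst

section Main

variable {k : Type u} [Field k] [IsAlgClosed k]

/-- Rational points of a nonempty scheme locally of finite type over `k`, as a morphism from the final object. -/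
theorem exists_point (T : Over (Spec (CommRingCat.of k))) [LocallyOfFiniteType T.hom] (z : T.left) :
    Nonempty (Over.mk (𝟙 (Spec (CommRingCat.of k))) ⟶ T) := by
  have : JacobsonSpace T.left := LocallyOfFiniteType.jacobsonSpace T.hom
  obtain ⟨y, -, hy⟩ := nonempty_inter_closedPoints (X := T.left) (Z := Set.univ) ⟨z, trivial⟩
    isOpen_univ.isLocallyClosed
  exact ⟨Over.homMk (pointOfClosedPoint T.hom y hy) (pointOfClosedPoint_comp T.hom y hy)⟩

theorem map_of_eq {S : Scheme.{u}} {F G : EtFppf.AbF S} (f : F ⟶ G) {T T' : Over S} (g : T' ⟶ T)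
    (s : F.obj.obj (op T)) : f.hom.app (op T') (F.obj.map g.op s) = G.obj.map g.op (f.hom.app (op T) s) :=
  NatTrans.naturality_apply f.hom g.op s

/-- A subsheaf of a constant sheaf which is generated by a section over a `k`-scheme locally of finite type is
constant. -/
theorem exists_iso_constF (Q : EtFppf.AbF (Spec (CommRingCat.of k))) (N : Type) [AddCommGroup N]
    (f : Q ⟶ EtDl.constF (Spec (CommRingCat.of k)) N) [Mono f]
    (X : Over (Spec (CommRingCat.of k))) [LocallyOfFiniteType X.hom] (q : Q.obj.obj (op X))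
    (hq : ∀ (R : EtFppf.AbF (Spec (CommRingCat.of k))) (φ : Q ⟶ R), φ.hom.app (op X) q = 0 → φ = 0) :
    ∃ C : AddSubgroup N, Nonempty (EtDl.constF (Spec (CommRingCat.of k)) C ≅ Q) := by
  have hf := fun T => Sec.app_injective_of_mono f T
  let pt : Over (Spec (CommRingCat.of k)) := Over.mk (𝟙 (Spec (CommRingCat.of k)))
  let f0 : Q.obj.obj (op pt) →+ (EtDl.constF (Spec (CommRingCat.of k)) N).obj.obj (op pt) :=
    (f.hom.app (op pt)).hom
  let C : AddSubgroup N := f0.range.comap (cst N pt)
  let γ : C →+ Q.obj.obj (op pt) :=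
    (AddMonoidHom.ofInjective (f := f0) (hf (op pt))).symm.toAddMonoidHom.comp
      (((cst N pt).comp C.subtype).codRestrict f0.range (fun c => c.2))
  have hγ : ∀ c : C, f.hom.app (op pt) (γ c) = cst N pt c := by
    intro c
    exact AddMonoidHom.apply_ofInjective_symm (f := f0) (hf (op pt)) ⟨cst N pt c, c.2⟩
  let h : EtDl.constF (Spec (CommRingCat.of k)) C ⟶ Q := ofGlobal C Q γ
  have hh : ∀ (T : Over (Spec (CommRingCat.of k))) (c : C),
      f.hom.app (op T) (h.hom.app (op T) (cst C T c)) = cst N T c := by
    intro T c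
    rw [ofGlobal_cst, map_of_eq, hγ, map_cst]
  -- `h` is a monomorphism
  have hinj : ∀ (T : Over (Spec (CommRingCat.of k)))
      (t : (EtDl.constF (Spec (CommRingCat.of k)) C).obj.obj (op T)), h.hom.app (op T) t = 0 → t = 0 := by
    intro T t ht
    refine sheaf_ext _ _ _ fun x => ?_
    obtain ⟨T', g, c, h1, h2, ⟨z, hz⟩, h4⟩ := exists_cst C t x
    refine ⟨T', g, h1, h2, ⟨z, hz⟩, ?_⟩
    rw [h4, map_zero]
    have h5 : h.hom.app (op T') (cst C T' c) = 0 := by
      rw [← h4, map_of_eq, ht, map_zero]
    have h6 : (c : N) = 0 := by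
      refine cst_eq_zero N z _ ?_
      rw [← hh, h5, map_zero]
    have h7 : c = 0 := Subtype.ext h6
    rw [h7, map_zero]
  have hmono : Mono h := by
    rw [Sheaf.Hom.mono_iff_presheaf_mono, NatTrans.mono_iff_mono_app]
    rintro ⟨T⟩
    rw [AddCommGrpCat.mono_iff_injective]
    refine (injective_iff_map_eq_zero (h.hom.app (op T)).hom).2 fun t ht => hinj T t ht
  -- `h` is an epimorphism
  have hq0 : (cokernel.π h).hom.app (op X) q = 0 := by
    refine sheaf_ext _ _ _ fun x => ?_
    obtain ⟨T', g, m, h1, h2, ⟨z, hz⟩, h4⟩ := exists_cst N (f.hom.app (op X) q) x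
    refine ⟨T', g, h1, h2, ⟨z, hz⟩, ?_⟩
    have h5 : LocallyOfFiniteType T'.hom := by
      rw [← Over.w g]
      infer_instance
    obtain ⟨y⟩ := exists_point T' z
    have h6 : m ∈ C := by
      refine ⟨Q.obj.map (y ≫ g).op q, ?_⟩
      change f.hom.app (op pt) (Q.obj.map (y ≫ g).op q) = cst N pt m
      rw [map_of_eq, op_comp, Functor.map_comp, ConcreteCategory.comp_apply, h4, map_cst]
    have h7 : Q.obj.map g.op q = h.hom.app (op T') (cst C T' ⟨m, h6⟩) := by
      apply hf (op T')
      rw [hh, map_of_eq, h4]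
    rw [map_zero, ← map_of_eq, h7]
    have h8 : (h ≫ cokernel.π h).hom.app (op T') (cst C T' ⟨m, h6⟩) = 0 := by
      rw [cokernel.condition]
      rfl
    exact h8
  have hepi : Epi h := by
    have := hq _ (cokernel.π h) hq0
    exact Preadditive.epi_of_cokernel_zero this
  have : IsIso h := isIso_of_mono_of_epi h
  exact ⟨C, ⟨asIso h⟩⟩

end Main

end Groth.Agent.Etdl.H153.ConstSub
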