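import Mathlib.CategoryTheory.Sites.Abelian
import Mathlib.CategoryTheory.Sites.EpiMono
import Mathlib.CategoryTheory.Sites.SheafCohomology.Basic
import Mathlib.Algebra.Homology.ShortComplex.Ab
import Mathlib.Algebra.Homology.ShortComplex.PreservesHomology
import Mathlib.CategoryTheory.Limits.Shapes.Kernels

/-!
Sections of kernels of morphisms of abelian sheaves.
-/

set_option autoImplicit false
universe w v u
open CategoryTheory CategoryTheory.Limits Opposite

namespace Groth.Agent.Etdl.H153.Sec

variable {C : Type u} [Category.{v} C] {J : GrothendieckTopology C} {F G : Sheaf J AddCommGrpCat.{w}}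

theorem app_injective_of_mono (φ : F ⟶ G) [Mono φ] (U : Cᵒᵖ) : Function.Injective (φ.hom.app U) := by
  have h1 : Mono ((sheafToPresheaf J AddCommGrpCat.{w}).map φ) := inferInstance
  have h2 : Mono (φ.hom.app U) := (NatTrans.mono_iff_mono_app (φ.hom)).1 h1 U
  exact (AddCommGrpCat.mono_iff_injective _).1 h2

variable [HasSheafify J AddCommGrpCat.{w}]

/-- Sections form a left exact functor. -/
theorem exists_of_exact (S : ShortComplex (Sheaf J AddCommGrpCat.{w})) (hS : S.Exact) [Mono S.f] (U : Cᵒᵖ)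
    (x : S.X₂.obj.obj U) (hx : S.g.hom.app U x = 0) : ∃ y : S.X₁.obj.obj U, S.f.hom.app U y = x := by
  let E : Sheaf J AddCommGrpCat.{w} ⥤ AddCommGrpCat.{w} :=
    sheafToPresheaf J AddCommGrpCat.{w} ⋙ (evaluation _ _).obj U
  have : E.PreservesZeroMorphisms := ⟨fun _ _ => rfl⟩
  have h1 : (S.map E).Exact := hS.map_of_mono_of_preservesKernel E inferInstance inferInstance
  exact ((ShortComplex.ab_exact_iff _).1 h1) x hx

theorem kernel_injective (φ : F ⟶ G) (U : Cᵒᵖ) : Function.Injective ((kernel.ι φ).hom.app U) :=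
  app_injective_of_mono _ _

theorem exists_kernel (φ : F ⟶ G) (U : Cᵒᵖ) (x : F.obj.obj U) (hx : φ.hom.app U x = 0) :
    ∃ y : (kernel φ).obj.obj U, (kernel.ι φ).hom.app U y = x :=
  exists_of_exact (ShortComplex.mk (kernel.ι φ) φ (kernel.condition φ))
    (ShortComplex.exact_of_f_is_kernel _ (kernelIsKernel φ)) U x hx

theorem kernel_condition (φ : F ⟶ G) (U : Cᵒᵖ) (y : (kernel φ).obj.obj U) :
    φ.hom.app U ((kernel.ι φ).hom.app U y) = 0 := by
  have h : (kernel.ι φ ≫ φ).hom.app U = 0 := by rw [kernel.condition]; rfl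
  exact congr($h y)

end Groth.Agent.Etdl.H153.Sec
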