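import Groth.Agent.Etdl.H153.KumAlg
import Groth.Agent.Etdl.H153.Sec
import Groth.Agent.Etrest.BigEtDescent
import Groth.Prelude.Def_EtDlF
import Mathlib.AlgebraicGeometry.Morphisms.Etale

/-!
# Kummer sequence for `G_m(m)` on the big fppf site

* `epi_nsmul_GmMod`: multiplication by `n` on `GmMod i` is an epimorphism if `n` is invertible on `X`.
-/

set_option autoImplicit false
universe u
open CategoryTheory CategoryTheory.Limits AlgebraicGeometry Opposite

namespace Groth.Agent.Etdl.H153.KumBig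

open Groth.Agent.Etrest.BigEtSite Groth.Agent.Etdl.H153

set_option backward.isDefEq.respectTransparency.types false in
/-- Étale-local `n`-th roots of unit global functions, big site form. -/
theorem exists_local_root {S : Scheme.{u}} (n : ℕ) (hn : IsUnit (n : Γ(S, ⊤))) (U : Over S)
    (s : Γ(U.left, ⊤)ˣ) (x : U.left) :
    ∃ (V : Over S) (g : V ⟶ U), Etale g.left ∧ (∃ v : V.left, g.left v = x) ∧
      ∃ t : Γ(V.left, ⊤)ˣ, (t : Γ(V.left, ⊤)) ^ n = g.left.appTop s ∧
        IsUnit (∑ i ∈ Finset.range n, (t : Γ(V.left, ⊤)) ^ i) := by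
  obtain ⟨W, hW, hxW, -⟩ := exists_isAffineOpen_mem_and_subset (X := U.left) (U := ⊤) (x := x) trivial
  have hnW : IsUnit (n : Γ(U.left, W)) := by
    have h1 := hn.map (U.hom.appTop ≫ U.left.presheaf.map (homOfLE (le_top (a := W))).op).hom
    rwa [map_natCast] at h1
  have hne : Nontrivial Γ(U.left, W) := by
    have : Nonempty W := ⟨⟨x, hxW⟩⟩
    infer_instance
  have hn0 : n ≠ 0 := by
    rintro rfl
    simp at hnW
  let a : Γ(U.left, W)ˣ := Units.map (U.left.presheaf.map (homOfLE (le_top (a := W))).op).hom.toMonoidHom s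
  obtain ⟨B, _, _, hB, hsurj, b, hb, hbs⟩ :=
    KumAlg.exists_etale_nthRoot Γ(U.left, W) n hn0 hnW a
  let φ : Γ(U.left, W) ⟶ CommRingCat.of B := CommRingCat.ofHom (algebraMap _ B)
  have hφ : Etale (Spec.map φ) := by
    rw [HasRingHomProperty.Spec_iff (P := @Etale)]
    exact (RingHom.etale_algebraMap (R := Γ(U.left, W)) (S := B)).2 hB
  let f : Spec (CommRingCat.of B) ⟶ U.left := Spec.map φ ≫ hW.fromSpec
  have hf : Etale f := inferInstance
  let V : Over S := Over.mk (f ≫ U.hom)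
  let g : V ⟶ U := Over.homMk f rfl
  refine ⟨V, g, hf, ?_, ?_⟩
  · obtain ⟨y, hy⟩ : ∃ y, hW.fromSpec y = x := by
      have := hW.range_fromSpec
      have h2 : x ∈ Set.range hW.fromSpec := by rw [this]; exact hxW
      exact h2
    obtain ⟨z, hz⟩ := hsurj y
    refine ⟨z, ?_⟩
    change (Spec.map φ ≫ hW.fromSpec) z = x
    rw [Scheme.Hom.comp_apply, ← hy]
    congr 1
  · let e := Scheme.ΓSpecIso (CommRingCat.of B)
    let t₀ : Γ(V.left, ⊤) := e.inv b
    have ht : t₀ ^ n = g.left.appTop s := by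
      change (e.inv b) ^ n = (Spec.map φ ≫ hW.fromSpec).appTop s
      rw [← map_pow, hb, Scheme.Hom.comp_appTop, CommRingCat.comp_apply]
      have h1 : hW.fromSpec.appTop = U.left.presheaf.map (homOfLE (le_top (a := W))).op ≫
          (Scheme.ΓSpecIso Γ(U.left, W)).inv := by
        rw [Scheme.Hom.appTop, hW.fromSpec_app_of_le ⊤ le_top]
        simp
      rw [h1, CommRingCat.comp_apply]
      have h2 := congr($(Scheme.ΓSpecIso_inv_naturality φ) (a : Γ(U.left, W)))
      rw [CommRingCat.comp_apply, CommRingCat.comp_apply] at h2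
      exact h2
    have hu : IsUnit t₀ := by
      have h1 : IsUnit (t₀ ^ n) := by
        rw [ht]
        exact s.isUnit.map g.left.appTop.hom
      exact (isUnit_pow_iff hn0).1 h1
    refine ⟨hu.unit, ht, ?_⟩
    have h3 := hbs.map e.inv.hom
    rw [map_sum, Finset.sum_congr rfl fun i _ => map_pow e.inv.hom b i] at h3
    exact h3

variable {Y X : Scheme.{u}} (i : Y ⟶ X)

/-- The unit attached to a section of `GmF`. -/
def toUnit {T : Over X} (s : (EtDl.GmF X).obj.obj (op T)) : Γ(T.left, ⊤)ˣ := Additive.toMul s.down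

/-- The section of `GmF` attached to a unit. -/
def ofUnit {T : Over X} (s : Γ(T.left, ⊤)ˣ) : (EtDl.GmF X).obj.obj (op T) := ULift.up (Additive.ofMul s)

theorem ext_val {T : Over X} {s t : (EtDl.GmF X).obj.obj (op T)}
    (h : (toUnit s : Γ(T.left, ⊤)) = toUnit t) : s = t :=
  ULift.ext _ _ (Additive.toMul.injective (Units.ext h))

theorem toUnit_map {T T' : Over X} (g : T' ⟶ T) (s : (EtDl.GmF X).obj.obj (op T)) :
    (toUnit ((EtDl.GmF X).obj.map g.op s) : Γ(T'.left, ⊤)) = g.left.appTop (toUnit s : Γ(T.left, ⊤)) := rfl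

theorem toUnit_nsmul {T : Over X} (n : ℕ) (s : (EtDl.GmF X).obj.obj (op T)) :
    (toUnit (n • s) : Γ(T.left, ⊤)) = (toUnit s : Γ(T.left, ⊤)) ^ n := rfl

theorem resGmF_eq_zero_iff {T : Over X} (s : (EtDl.GmF X).obj.obj (op T)) :
    (EtDl.resGmF i).hom.app (op T) s = 0 ↔
      (pullback.fst T.hom i).appTop (toUnit s : Γ(T.left, ⊤)) = 1 := by
  constructor
  · intro h
    exact congr((toUnit (X := Y) (T := (Over.pullback i).obj T) $h : Γ(((Over.pullback i).obj T).left, ⊤)))
  · intro h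
    exact ext_val (X := Y) (T := (Over.pullback i).obj T) h

/-- Multiplication by `n` on sections. -/
theorem nsmul_app {F : EtFppf.AbF X} (n : ℕ) (T : Over X) (s : F.obj.obj (op T)) :
    (n • 𝟙 F : F ⟶ F).hom.app (op T) s = n • s := rfl

/-- The section of `GmMod i` attached to a unit which is `1` on `Y`. -/
theorem exists_GmMod {T : Over X} (u : Γ(T.left, ⊤)ˣ)
    (hu : (pullback.fst T.hom i).appTop (u : Γ(T.left, ⊤)) = 1) :
    ∃ t : (EtDl.GmMod i).obj.obj (op T),
      (kernel.ι (EtDl.resGmF i)).hom.app (op T) t = ofUnit u :=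
  Sec.exists_kernel _ _ _ ((resGmF_eq_zero_iff i (ofUnit u)).2 hu)

theorem ι_injective (T : Over X) :
    Function.Injective ((kernel.ι (EtDl.resGmF i)).hom.app (op T)) :=
  Sec.kernel_injective _ _

/-- The unit of a section of `GmMod i` is `1` on `Y`. -/
theorem GmMod_condition {T : Over X} (t : (EtDl.GmMod i).obj.obj (op T)) :
    (pullback.fst T.hom i).appTop
      (toUnit ((kernel.ι (EtDl.resGmF i)).hom.app (op T) t) : Γ(T.left, ⊤)) = 1 :=
  (resGmF_eq_zero_iff i _).1 (Sec.kernel_condition _ _ t)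

/-- Multiplication by an invertible `n` is an epimorphism on `G_m(m)` (big fppf site). -/
theorem epi_nsmul_GmMod (n : ℕ) (hn : IsUnit (n : Γ(X, ⊤))) :
    Epi (n • 𝟙 (EtDl.GmMod i) : EtDl.GmMod i ⟶ EtDl.GmMod i) := by
  rw [← Sheaf.isLocallySurjective_iff_epi']
  constructor
  intro T s
  rw [mem_J_iff]
  intro x
  let s' := (kernel.ι (EtDl.resGmF i)).hom.app (op T) s
  obtain ⟨V, g, hg, ⟨v, hv⟩, t, ht, hts⟩ := exists_local_root n hn T (toUnit s') x
  have h1 : (pullback.fst V.hom i).appTop (t : Γ(V.left, ⊤)) = 1 := by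
    refine KumAlg.map_eq_one (pullback.fst V.hom i).appTop.hom ht hts ?_
    have h2 := GmMod_condition i ((EtDl.GmMod i).obj.map g.op s)
    have h3 : (kernel.ι (EtDl.resGmF i)).hom.app (op V) ((EtDl.GmMod i).obj.map g.op s) =
        (EtDl.GmF X).obj.map g.op s' :=
      NatTrans.naturality_apply (kernel.ι (EtDl.resGmF i)).hom g.op s
    rw [h3, toUnit_map] at h2
    exact h2
  obtain ⟨t', ht'⟩ := exists_GmMod i t h1
  refine ⟨V, g, ⟨t', ?_⟩, inferInstance, inferInstance, v, hv⟩
  apply ι_injective i V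
  have h3 : (kernel.ι (EtDl.resGmF i)).hom.app (op V) ((EtDl.GmMod i).obj.map g.op s) =
      (EtDl.GmF X).obj.map g.op s' :=
    NatTrans.naturality_apply (kernel.ι (EtDl.resGmF i)).hom g.op s
  refine Eq.trans ?_ h3.symm
  have h4 : (kernel.ι (EtDl.resGmF i)).hom.app (op V) (n • t' : (EtDl.GmMod i).obj.obj (op V)) =
      n • (kernel.ι (EtDl.resGmF i)).hom.app (op V) t' :=
    map_nsmul ((kernel.ι (EtDl.resGmF i)).hom.app (op V)).hom n t'
  refine h4.trans ?_
  rw [ht']
  exact ext_val ht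

end Groth.Agent.Etdl.H153.KumBig
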