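import Groth.Agent.EtpbcB.RDerLES
import Groth.Agent.Etrest.BigFppf
import Groth.Agent.Etrest.BigPush4


import Groth.Agent.Etrest.FppfExact
import Groth.Agent.Etdl.H153.KumBig

/-!
# Kummer sequence and higher direct images on the big fppf site
-/

set_option autoImplicit false
universe u v
open CategoryTheory CategoryTheory.Limits AlgebraicGeometry Opposite

namespace Groth.Agent.Etdl.H153.DerKum

open Groth.Agent.EtpbcB

section Abs

variable {C : Type*} [Category* C] [Abelian C]

/-- The short exact sequence `0 → F[n] → F → F → 0`. -/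
theorem shortExact_nsmul (F : C) (n : ℕ) [Epi (n • 𝟙 F)] :
    (ShortComplex.mk (kernel.ι (n • 𝟙 F)) (n • 𝟙 F) (kernel.condition _)).ShortExact :=
  { exact := ShortComplex.exact_kernel _ }

variable {D : Type*} [Category* D] [Abelian D] [HasInjectiveResolutions C] (G : C ⥤ D) [G.Additive]

/-- If `δ⁰ = 0` then `R¹G(F[n]) = (R¹G F)[n]`. -/
theorem nonempty_kernel_iso (F : C) (n : ℕ) [Epi (n • 𝟙 F)]
    (h : RDerLES.δ G (shortExact_nsmul F n) 0 = 0) :
    Nonempty ((G.rightDerived 1).obj (kernel (n • 𝟙 F)) ≅ kernel (n • 𝟙 ((G.rightDerived 1).obj F))) := by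
  have h1 := RDerLES.exact₁ G (shortExact_nsmul F n) 0
  have h2 := RDerLES.exact₂ G (shortExact_nsmul F n) 1
  have hm : Mono ((G.rightDerived 1).map (kernel.ι (n • 𝟙 F))) := h1.mono_g h
  have e : (G.rightDerived 1).map (n • 𝟙 F) = n • 𝟙 _ := by
    rw [Functor.map_nsmul, CategoryTheory.Functor.map_id]
  have h3 : IsLimit (KernelFork.ofι ((G.rightDerived 1).map (kernel.ι (n • 𝟙 F)))
      (RDerLES.map_comp_zero G (S := ShortComplex.mk (kernel.ι (n • 𝟙 F)) (n • 𝟙 F) (kernel.condition _)) 1)) :=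
    h2.fIsKernel
  exact ⟨(h3.conePointUniqueUpToIso (limit.isLimit _)).trans (kernelIsoOfEq e)⟩

/-- `(R¹G F)/n` embeds into `R²G(F[n])`. -/
theorem exists_mono_cokernel (F : C) (n : ℕ) [Epi (n • 𝟙 F)] :
    ∃ f : cokernel (n • 𝟙 ((G.rightDerived 1).obj F)) ⟶ (G.rightDerived 2).obj (kernel (n • 𝟙 F)), Mono f := by
  have h1 := RDerLES.exact₃ G (shortExact_nsmul F n) 1
  have e : (G.rightDerived 1).map (n • 𝟙 F) = n • 𝟙 _ := by
    rw [Functor.map_nsmul, CategoryTheory.Functor.map_id]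
  have hm : Mono (cokernel.desc ((G.rightDerived 1).map (n • 𝟙 F)) (RDerLES.δ G (shortExact_nsmul F n) 1)
      (RDerLES.comp_δ G (shortExact_nsmul F n) 1)) := h1.mono_cokernelDesc
  exact ⟨(cokernelIsoOfEq e).inv ≫ cokernel.desc _ _ (RDerLES.comp_δ G (shortExact_nsmul F n) 1), inferInstance⟩

end Abs

section Sections

open Groth.Agent.Etrest Groth.Agent.Etrest.BigEtSite

/-- Sections of `a⁻¹ F` on the big fppf site which agree on a jointly surjective family are equal. -/
theorem aPull_eq_of_jointly_surjective {S : Scheme.{u}} [EtFppf.ACont S] (F : EtCoh.Ab S) {T : Over S}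
    (s s' : ((EtFppf.aPull S).obj F).obj.obj (op T))
    (H : ∀ x : T.left, ∃ (T' : Over S) (g : T' ⟶ T), x ∈ Set.range g.left ∧
      ((EtFppf.aPull S).obj F).obj.map g.op s = ((EtFppf.aPull S).obj F).obj.map g.op s') : s = s' := by
  let e := (BigFppf.aPullIso S).app F
  have h1 : Function.Injective (e.hom.hom.app (op T)) := by
    have : IsIso (e.hom.hom.app (op T)) := inferInstance
    exact ((ConcreteCategory.isIso_iff_bijective _).1 this).1
  apply h1
  refine eq_of_jointly_surjective F _ _ fun x => ?_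
  obtain ⟨T', g, hx, h⟩ := H x
  refine ⟨T', g, hx, ?_⟩
  have n1 := congr($(e.hom.hom.naturality g.op) s)
  have n2 := congr($(e.hom.hom.naturality g.op) s')
  rw [ConcreteCategory.comp_apply, ConcreteCategory.comp_apply] at n1 n2
  exact n1.symm.trans ((congrArg _ h).trans n2)

/-- A morphism to `a⁻¹ E` killed by `n` from a sheaf whose sections are pointwise `n`-divisible is zero. -/
theorem eq_zero_of_divisible {S : Scheme.{u}} [EtFppf.ACont S] (F : EtFppf.AbF S) (n : ℕ) (E : EtCoh.Ab S)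
    (d : F ⟶ (EtFppf.aPull S).obj E) (hd : n • d = 0)
    (H : ∀ (T : Over S) (s : F.obj.obj (op T)) (x : T.left), ∃ (T' : Over S) (g : T' ⟶ T),
      x ∈ Set.range g.left ∧ ∃ v : F.obj.obj (op T'), F.obj.map g.op s = n • v) : d = 0 := by
  refine Sheaf.hom_ext ?_
  ext T s
  obtain ⟨T⟩ := T
  refine aPull_eq_of_jointly_surjective E (T := T) _ _ fun x => ?_
  obtain ⟨T', g, hx, v, hv⟩ := H T s x
  refine ⟨T', g, hx, ?_⟩
  have h1 : ((EtFppf.aPull S).obj E).obj.map g.op (d.hom.app (op T) s) = d.hom.app (op T') (F.obj.map g.op s) := by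
    have := congr($(d.hom.naturality g.op) s)
    rw [ConcreteCategory.comp_apply, ConcreteCategory.comp_apply] at this
    exact this.symm
  have h2 : d.hom.app (op T') (n • v) = 0 := by
    rw [map_nsmul]
    exact congr(($hd).hom.app (op T') v)
  change ((EtFppf.aPull S).obj E).obj.map g.op (d.hom.app (op T) s) = ((EtFppf.aPull S).obj E).obj.map g.op 0
  rw [h1, hv, h2, map_zero]

/-- The connecting map `p_* F → R¹p_*(F[n])` vanishes if sections of `p_* F` are pointwise `n`-divisible and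
`R¹p_*(F[n])` comes from the small étale site. -/
theorem δ_eq_zero {P S : Scheme.{u}} (p : P ⟶ S) [EtFppf.ACont S] (F : EtFppf.AbF P) (n : ℕ)
    [Epi (n • 𝟙 F)] (E : EtCoh.Ab S)
    (e : (EtFppf.RpushBig p 1).obj (kernel (n • 𝟙 F)) ≅ (EtFppf.aPull S).obj E)
    (H : ∀ (T : Over S) (s : ((EtFppf.pushBig p).obj F).obj.obj (op T)) (x : T.left),
      ∃ (T' : Over S) (g : T' ⟶ T), x ∈ Set.range g.left ∧
        ∃ v : ((EtFppf.pushBig p).obj F).obj.obj (op T'), ((EtFppf.pushBig p).obj F).obj.map g.op s = n • v) :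
    RDerLES.δ (EtFppf.pushBig p) (shortExact_nsmul F n) 0 = 0 := by
  let z := (EtFppf.pushBig p).rightDerivedZeroIsoSelf.app F
  let d : (EtFppf.pushBig p).obj F ⟶ (EtFppf.aPull S).obj E :=
    z.inv ≫ RDerLES.δ (EtFppf.pushBig p) (shortExact_nsmul F n) 0 ≫ e.hom
  have h0 : ((EtFppf.pushBig p).rightDerived 0).map (n • 𝟙 F) ≫
      RDerLES.δ (EtFppf.pushBig p) (shortExact_nsmul F n) 0 = 0 :=
    RDerLES.comp_δ (EtFppf.pushBig p) (shortExact_nsmul F n) 0
  rw [Functor.map_nsmul, CategoryTheory.Functor.map_id] at h0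
  have hd : n • d = 0 := by
    have h1 : n • d = z.inv ≫ ((n • 𝟙 _) ≫ RDerLES.δ (EtFppf.pushBig p) (shortExact_nsmul F n) 0) ≫ e.hom := by
      simp only [Preadditive.nsmul_comp, Preadditive.comp_nsmul, Category.id_comp]
      rfl
    rw [h1, h0, zero_comp, comp_zero]
  have hd0 := eq_zero_of_divisible ((EtFppf.pushBig p).obj F) n E d hd H
  have : RDerLES.δ (EtFppf.pushBig p) (shortExact_nsmul F n) 0 = z.hom ≫ d ≫ e.inv := by
    simp [d]
  rw [this, hd0, zero_comp, comp_zero]

end Sections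

end Groth.Agent.Etdl.H153.DerKum
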