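import Groth.Agent.Etdl.H153.KumBig
import Mathlib.AlgebraicGeometry.Morphisms.Proper
import Mathlib.AlgebraicGeometry.ResidueField
import Mathlib.FieldTheory.IsAlgClosed.AlgebraicClosure

/-!
# Sections of `p_* G_m(m)` are pointwise divisible
-/

set_option autoImplicit false
universe u
open CategoryTheory CategoryTheory.Limits AlgebraicGeometry Opposite

namespace Groth.Agent.Etdl.H153.Div

open Groth.Agent.Etdl.H153.KumBig

/-- The form of the statement about `n`-th roots of units which is used. -/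
def HasRoots : Prop :=
  ∀ (Ω : Type u) [Field Ω] [IsAlgClosed Ω] {Z W : Scheme.{u}} (p : Z ⟶ Spec (CommRingCat.of Ω)) [IsProper p]
    (i : W ⟶ Z) (n : ℕ) (_ : (n : Ω) ≠ 0) (a : Γ(Z, ⊤)) (_ : IsUnit a) (_ : i.appTop.hom a = 1),
    ∃ v : Γ(Z, ⊤), v ^ n = a ∧ i.appTop.hom v = 1

theorem nsmul_app' {X : Scheme.{u}} {F : EtFppf.AbF X} (n : ℕ) (T : Over X) (s : F.obj.obj (op T)) :
    (n • 𝟙 F : F ⟶ F).hom.app (op T) s = n • s := rfl

/-- If the unit attached to a section of `GmMod` has an `n`-th root which is `1` on `Y`, then the section is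
divisible by `n`. -/
theorem exists_nsmul_eq {Y X : Scheme.{u}} (i : Y ⟶ X) (n : ℕ) (hn : n ≠ 0) {Q : Over X}
    (s : (EtDl.GmMod i).obj.obj (op Q))
    (H : ∃ v : Γ(Q.left, ⊤), v ^ n = (toUnit ((kernel.ι (EtDl.resGmF i)).hom.app (op Q) s) : Γ(Q.left, ⊤)) ∧
      (pullback.fst Q.hom i).appTop v = 1) :
    ∃ t : (EtDl.GmMod i).obj.obj (op Q), s = n • t := by
  obtain ⟨v, hv, hv1⟩ := H
  have hu : IsUnit v := by
    have : IsUnit (v ^ n) := by
      rw [hv]
      exact Units.isUnit _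
    exact (isUnit_pow_iff hn).1 this
  obtain ⟨t, ht⟩ := exists_GmMod i hu.unit hv1
  refine ⟨t, ?_⟩
  apply ι_injective i Q
  have h4 : (kernel.ι (EtDl.resGmF i)).hom.app (op Q) (n • t : (EtDl.GmMod i).obj.obj (op Q)) =
      n • (kernel.ι (EtDl.resGmF i)).hom.app (op Q) t :=
    map_nsmul ((kernel.ι (EtDl.resGmF i)).hom.app (op Q)).hom n t
  refine Eq.trans ?_ h4.symm
  rw [ht]
  exact ext_val hv.symm

/-- Geometric points. -/
theorem exists_geometric_point {T : Scheme.{u}} (x : T) :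
    ∃ (Ω : Type u) (_ : Field Ω) (_ : IsAlgClosed Ω) (ξ : Spec (CommRingCat.of Ω) ⟶ T),
      ξ (default : Spec (CommRingCat.of Ω)) = x := by
  refine ⟨AlgebraicClosure (T.residueField x), inferInstance, inferInstance,
    Spec.map (CommRingCat.ofHom (algebraMap (T.residueField x) _)) ≫ T.fromSpecResidueField x, ?_⟩
  rw [Scheme.Hom.comp_apply]
  exact Scheme.fromSpecResidueField_apply _ _

theorem divisible (hroot : HasRoots.{u}) (k : Type u) [Field k] {P Y : Scheme.{u}}
    (p : P ⟶ Spec (CommRingCat.of k)) [IsProper p] (i : Y ⟶ P) (n : ℕ) (hn : (n : k) ≠ 0)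
    (T : Over (Spec (CommRingCat.of k))) (s : ((EtFppf.pushBig p).obj (EtDl.GmMod i)).obj.obj (op T))
    (x : T.left) :
    ∃ (T' : Over (Spec (CommRingCat.of k))) (g : T' ⟶ T), x ∈ Set.range g.left ∧
      ∃ v : ((EtFppf.pushBig p).obj (EtDl.GmMod i)).obj.obj (op T'),
        ((EtFppf.pushBig p).obj (EtDl.GmMod i)).obj.map g.op s = n • v := by
  obtain ⟨Ω, _, _, ξ, hξ⟩ := exists_geometric_point x
  let T' : Over (Spec (CommRingCat.of k)) := Over.mk (ξ ≫ T.hom)
  let g : T' ⟶ T := Over.homMk ξ rfl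
  have hx : x ∈ Set.range g.left := ⟨(default : Spec (CommRingCat.of Ω)), hξ⟩
  have hnΩ : (n : Ω) ≠ 0 := by
    let φ := (Spec.preimage (ξ ≫ T.hom)).hom
    have h1 : (n : Ω) = φ (n : k) := (map_natCast φ n).symm
    rw [h1]
    exact fun h => hn ((map_eq_zero_iff φ φ.injective).1 h)
  have hn0 : n ≠ 0 := by
    rintro rfl
    simp at hn
  refine ⟨T', g, hx, ?_⟩
  refine exists_nsmul_eq i n hn0 (Q := (Over.pullback p).obj T') _ ?_
  have hp : IsProper (pullback.fst T'.hom p) := inferInstance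
  exact hroot Ω (Z := pullback T'.hom p) (pullback.fst T'.hom p)
    (pullback.fst ((Over.pullback p).obj T').hom i) n hnΩ _ (Units.isUnit _)
    (GmMod_condition i _)

end Groth.Agent.Etdl.H153.Div
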