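import Mathlib.RingTheory.Etale.StandardEtale
import Mathlib.FieldTheory.IsAlgClosed.AlgebraicClosure
import Mathlib.RingTheory.LocalRing.ResidueField.Ideal
import Mathlib.RingTheory.Spectrum.Prime.RingHom
import Mathlib.Algebra.Ring.GeomSum
import Mathlib.Algebra.Group.Pi.Units
import Mathlib.RingTheory.Artinian.Module
import Mathlib.RingTheory.Noetherian.Nilpotent
import Mathlib.RingTheory.Smooth.Basic

/-!
Étale-local existence of `n`-th roots `v` of units with `∑_{i<n} v^i` a unit (`n` invertible): then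
`v - 1 = (u - 1) / ∑ v^i`, so `v = 1` wherever `u = 1`.

* `exists_etale_nthRoot`: the étale algebra.
* `exists_nthRoot_of_finite`: sections over a finite algebra over an algebraically closed field.
-/

set_option autoImplicit false
universe u

open Polynomial

namespace Groth.Agent.Etdl.H153.KumAlg

/-- In an algebraically closed field every `a` has an `n`-th root `t` with `∑ t^i ≠ 0`, `n ≠ 0` in the field. -/
theorem exists_root_field {K : Type*} [Field K] [IsAlgClosed K] (n : ℕ) (hn : (n : K) ≠ 0) (a : K) :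
    ∃ t : K, t ^ n = a ∧ ∑ i ∈ Finset.range n, t ^ i ≠ 0 := by
  have hn0 : n ≠ 0 := by rintro rfl; simp at hn
  by_cases ha : a = 1
  · subst ha
    exact ⟨1, by simp, by simpa using hn⟩
  · obtain ⟨t, ht⟩ := IsAlgClosed.exists_pow_nat_eq a (Nat.pos_of_ne_zero hn0)
    refine ⟨t, ht, fun h0 => ha ?_⟩
    have h2 : (∑ i ∈ Finset.range n, t ^ i) * (t - 1) = t ^ n - 1 := geom_sum_mul t n
    rw [h0, zero_mul, ht] at h2
    exact (sub_eq_zero.1 h2.symm)

/-- The standard étale pair `(X^n - a, ∑ X^i)` for `n`, `a` invertible. -/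
noncomputable def pair {A : Type u} [CommRing A] (n : ℕ) (hn0 : n ≠ 0) (hn : IsUnit (n : A)) (a : Aˣ) :
    StandardEtalePair A where
  f := X ^ n - C (a : A)
  monic_f := monic_X_pow_sub_C _ hn0
  g := ∑ i ∈ Finset.range n, X ^ i
  cond := by
    obtain ⟨m, hm⟩ := hn
    obtain ⟨k, rfl⟩ : ∃ k, n = k + 1 := ⟨n - 1, by omega⟩
    refine ⟨X * C (((m⁻¹ : Aˣ) : A) * ((a⁻¹ : Aˣ) : A)) * ∑ i ∈ Finset.range (k + 1), X ^ i,
      - C ((a⁻¹ : Aˣ) : A) * ∑ i ∈ Finset.range (k + 1), X ^ i, 1, ?_⟩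
    have h1 : (C ((k + 1 : ℕ) : A) : A[X]) * C (((m⁻¹ : Aˣ) : A) * ((a⁻¹ : Aˣ) : A)) = C ((a⁻¹ : Aˣ) : A) := by
      rw [← C_mul, ← hm, ← mul_assoc, Units.mul_inv, one_mul]
    have h2 : (C (a : A) : A[X]) * C ((a⁻¹ : Aˣ) : A) = 1 := by
      rw [← C_mul, Units.mul_inv, C_1]
    have h3 : derivative (X ^ (k + 1) - C (a : A)) = C ((k + 1 : ℕ) : A) * X ^ k := by
      simp
    rw [h3]
    calc _ = ((C ((k + 1 : ℕ) : A) * C (((m⁻¹ : Aˣ) : A) * ((a⁻¹ : Aˣ) : A))) * X ^ (k + 1)
          - (X ^ (k + 1)) * C ((a⁻¹ : Aˣ) : A) + C (a : A) * C ((a⁻¹ : Aˣ) : A)) *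
            ∑ i ∈ Finset.range (k + 1), X ^ i := by ring
      _ = _ := by rw [h1, h2]; ring

theorem hasMap_iff {A : Type u} [CommRing A] (n : ℕ) (hn0 : n ≠ 0) (hn : IsUnit (n : A)) (a : Aˣ)
    {S : Type*} [CommRing S] [Algebra A S] (t : S) :
    (pair n hn0 hn a).HasMap t ↔ t ^ n = algebraMap A S a ∧ IsUnit (∑ i ∈ Finset.range n, t ^ i) := by
  have h1 : aeval t (pair n hn0 hn a).f = t ^ n - algebraMap A S a := by simp [pair]
  have h2 : aeval t (pair n hn0 hn a).g = ∑ i ∈ Finset.range n, t ^ i := by simp [pair]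
  rw [StandardEtalePair.HasMap, h1, h2, sub_eq_zero]

/-- Étale-locally every unit has an `n`-th root `b` with `∑ b^i` a unit, for `n` invertible. -/
theorem exists_etale_nthRoot (A : Type u) [CommRing A] (n : ℕ) (hn0 : n ≠ 0) (hn : IsUnit (n : A)) (a : Aˣ) :
    ∃ (B : Type u) (_ : CommRing B) (_ : Algebra A B), Algebra.Etale A B ∧
      Function.Surjective (PrimeSpectrum.comap (algebraMap A B)) ∧
        ∃ b : B, b ^ n = algebraMap A B a ∧ IsUnit (∑ i ∈ Finset.range n, b ^ i) := by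
  refine ⟨(pair n hn0 hn a).Ring, inferInstance, inferInstance, inferInstance, ?_, (pair n hn0 hn a).X,
    (hasMap_iff n hn0 hn a _).1 StandardEtalePair.hasMap_X⟩
  intro p
  let K := AlgebraicClosure p.asIdeal.ResidueField
  let : Algebra A K := ((algebraMap p.asIdeal.ResidueField K).comp
    (algebraMap A p.asIdeal.ResidueField)).toAlgebra
  have hK : algebraMap A K = (algebraMap p.asIdeal.ResidueField K).comp
    (algebraMap A p.asIdeal.ResidueField) := rfl
  have hnK : (n : K) ≠ 0 := by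
    have := hn.map (algebraMap A K)
    rw [map_natCast] at this
    exact this.ne_zero
  obtain ⟨t, ht, hs⟩ := exists_root_field n hnK (algebraMap A K a)
  have hmap : (pair n hn0 hn a).HasMap t := (hasMap_iff n hn0 hn a t).2 ⟨ht, hs.isUnit⟩
  let φ := (pair n hn0 hn a).lift t hmap
  refine ⟨⟨RingHom.ker (φ : (pair n hn0 hn a).Ring →+* K), RingHom.ker_isPrime _⟩, ?_⟩
  ext x
  simp only [PrimeSpectrum.comap_asIdeal, Ideal.mem_comap, RingHom.mem_ker, RingHom.coe_coe, AlgHom.commutes]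
  rw [hK, RingHom.comp_apply, map_eq_zero_iff _ (algebraMap p.asIdeal.ResidueField K).injective,
    Ideal.algebraMap_residueField_eq_zero]

/-- If `v^n = u`, `∑ v^i` is a unit and `u` maps to `1`, then `v` maps to `1`. -/
theorem map_eq_one {A B : Type*} [CommRing A] [CommRing B] (f : A →+* B) {n : ℕ} {u v : A}
    (h : v ^ n = u) (hs : IsUnit (∑ i ∈ Finset.range n, v ^ i)) (hu : f u = 1) : f v = 1 := by
  have h2 : (∑ i ∈ Finset.range n, v ^ i) * (v - 1) = u - 1 := by rw [geom_sum_mul, h]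
  have h3 : f (∑ i ∈ Finset.range n, v ^ i) * (f v - 1) = 0 := by
    rw [← map_one f, ← map_sub, ← map_mul, h2, map_sub, hu, map_one, sub_self]
  exact sub_eq_zero.1 ((hs.map f).mul_right_eq_zero.1 h3)

/-- `n`-th roots of units of finite algebras over algebraically closed fields. -/
theorem exists_nthRoot_of_finite (K : Type*) [Field K] [IsAlgClosed K] (B : Type u) [CommRing B] [Algebra K B]
    [Module.Finite K B] (n : ℕ) (hn : (n : K) ≠ 0) (a : Bˣ) :
    ∃ b : B, b ^ n = a ∧ IsUnit (∑ i ∈ Finset.range n, b ^ i) := by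
  have hn0 : n ≠ 0 := by rintro rfl; simp at hn
  have : IsNoetherianRing B := IsNoetherianRing.of_finite K B
  have : IsArtinianRing B := IsArtinianRing.of_finite K B
  have hnB : IsUnit (n : B) := by
    have := (IsUnit.mk0 _ hn).map (algebraMap K B)
    rwa [map_natCast] at this
  let I := nilradical B
  have hI : IsNilpotent I := IsNoetherianRing.isNilpotent_nilradical B
  -- a root modulo the nilradical
  obtain ⟨t, ht, hts⟩ : ∃ t : B ⧸ I, t ^ n = Ideal.Quotient.mk I a ∧ IsUnit (∑ i ∈ Finset.range n, t ^ i) := by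
    have hred : IsReduced (B ⧸ I) := (Ideal.isRadical_iff_quotient_reduced I).1 (Ideal.radical_isRadical _)
    have : IsArtinianRing (B ⧸ I) := inferInstance
    let e := IsArtinianRing.equivPi (B ⧸ I)
    have key : ∀ m : MaximalSpectrum (B ⧸ I), ∃ t : (B ⧸ I) ⧸ m.asIdeal,
        t ^ n = e (Ideal.Quotient.mk I a) m ∧ ∑ i ∈ Finset.range n, t ^ i ≠ 0 := by
      intro m
      have := m.isMaximal
      let : Field ((B ⧸ I) ⧸ m.asIdeal) := Ideal.Quotient.field _
      have hbij : Function.Bijective (algebraMap K ((B ⧸ I) ⧸ m.asIdeal)) :=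
        IsAlgClosed.algebraMap_bijective_of_isIntegral
      obtain ⟨κ, hκ⟩ := hbij.2 (e (Ideal.Quotient.mk I a) m)
      obtain ⟨t0, h0, h0'⟩ := exists_root_field n hn κ
      refine ⟨algebraMap K _ t0, ?_, ?_⟩
      · rw [← map_pow, h0, hκ]
      · rw [← Finset.sum_congr rfl fun i _ => map_pow (algebraMap K ((B ⧸ I) ⧸ m.asIdeal)) t0 i, ← map_sum]
        exact fun h => h0' ((map_eq_zero _).1 h)
    choose t ht hts using key
    refine ⟨e.symm t, ?_, ?_⟩
    · apply e.injective
      rw [map_pow, AlgEquiv.apply_symm_apply]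
      ext m
      exact ht m
    · have h1 : IsUnit (∑ i ∈ Finset.range n, t ^ i) := by
        rw [Pi.isUnit_iff]
        intro m
        have := m.isMaximal
        letI : Field ((B ⧸ I) ⧸ m.asIdeal) := Ideal.Quotient.field _
        have h2 := (hts m)
        rw [Finset.sum_apply]
        exact IsUnit.mk0 _ h2
      have h2 := h1.map e.symm
      rwa [map_sum, Finset.sum_congr rfl fun i _ => map_pow e.symm t i] at h2
  have hmap : (pair n hn0 hnB a).HasMap t := (hasMap_iff n hn0 hnB a t).2 ⟨ht, hts⟩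
  obtain ⟨g, hg⟩ := Algebra.FormallySmooth.exists_lift (R := B) (A := (pair n hn0 hnB a).Ring) I hI
    ((pair n hn0 hnB a).lift t hmap)
  have h3 := (hasMap_iff n hn0 hnB a _).1 ((StandardEtalePair.hasMap_X (P := pair n hn0 hnB a)).map g)
  exact ⟨_, h3⟩

end Groth.Agent.Etdl.H153.KumAlg
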