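import Groth.Agent.Etdl.H153.KumMain
import Groth.Agent.Etdl.H512.Kummer
import Groth.Agent.Etdl.H292.Root
import Groth.Agent.Etdl.H521.CardH1
import Groth.Agent.S0746

/-!
# Kummer side of S3733: `J[n]` and `J/n` for the generalized Jacobian functor `J = R¹p_* G_m(m)`
-/

set_option autoImplicit false
universe u
open CategoryTheory CategoryTheory.Limits AlgebraicGeometry Opposite

namespace Groth.Agent.Etdl.H153.KumFinal

open Groth.Agent.Etdl.H153

/-- `J[n]` is a finite constant sheaf `constF M` with `|H¹(X, ℤ/n)| ≤ |M|`, and `J/n` embeds in a finite constant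
sheaf. -/
theorem kummer (k : Type u) [Field k] [IsAlgClosed k]
    {Xbar Y X : Scheme.{u}} (pbar : Xbar ⟶ Spec (CommRingCat.of k)) [IsProper pbar]
    (i : Y ⟶ Xbar) [IsClosedImmersion i] [IsFinite (i ≫ pbar)]
    (j : X ⟶ Xbar) [IsOpenImmersion j] (hij : Set.range j.base = (Set.range i.base)ᶜ)
    (hdense : Dense (Set.range j.base)) [SmoothOfRelativeDimension 1 (j ≫ pbar)]
    [EtFppf.ACont Xbar] [EtFppf.ACont (Spec (CommRingCat.of k))]
    (n : ℕ) (hn : (n : k) ≠ 0) :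
    (∃ (M : Type) (_ : AddCommGroup M) (_ : Finite M),
      Nonempty (EtDl.constF (Spec (CommRingCat.of k)) M ≅
        kernel (n • 𝟙 ((EtFppf.RpushBig pbar 1).obj (EtDl.GmMod i)))) ∧
      Finite (EtCoh.H X (EtCoh.const X (ZMod n)) 1) ∧
      Nat.card (EtCoh.H X (EtCoh.const X (ZMod n)) 1) ≤ Nat.card M) ∧
    (∃ (N : Type) (_ : AddCommGroup N) (_ : Finite N)
      (f : cokernel (n • 𝟙 ((EtFppf.RpushBig pbar 1).obj (EtDl.GmMod i))) ⟶
        EtDl.constF (Spec (CommRingCat.of k)) N), Mono f) := by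
  have hn0 : n ≠ 0 := fun h => hn (by rw [h, Nat.cast_zero])
  have : NeZero n := ⟨hn0⟩
  obtain ⟨-, K, ⟨eX⟩, hY, hKt, ⟨e⟩⟩ := Groth.Agent.Etdl.H512.Kummer.D_kummer k pbar i j hij n hn
  obtain ⟨e0⟩ := Groth.Agent.Etdl.H521.CardH1.nonempty_iso_extZero i j hij K _ eX hY
  have hfin : ∀ q, Finite (EtCoh.H Xbar K q) := fun q => by
    have hf : Finite (EtCoh.H Xbar ((EtShriek.extZero j).obj (EtCoh.const X (ZMod n))) q) :=
      Groth.Agent.S3111.result pbar j n (Nat.pos_of_ne_zero hn0) _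
        (Groth.Agent.Etrest.ConstBasic.isConstructible_const X (ZMod n))
        (Groth.Agent.Etrest.ConstBasic.killedBy_const X (ZMod n) n fun m => by simp) q
    exact Finite.of_equiv _ (Groth.Agent.Sga4B.HTools.HCongr e0.symm q).toEquiv
  obtain ⟨⟨M, i1, i2, hM, ⟨eM⟩⟩, hN⟩ := KumMain.kummer_of k pbar i n hn
    (fun Ω _ _ _ _ p _ i n hn a ha h => Groth.Agent.Etdl.H292.Root.F_root Ω p i n hn a ha h)
    K e hfin (fun q => Groth.Agent.S0746.result pbar K hKt q)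
  obtain ⟨h1, h2, h3⟩ := Groth.Agent.Etdl.H521.CardH1.A_card_H1_le k pbar i j hij hdense n hn K ⟨eX⟩ hY
  exact ⟨⟨M, i1, i2, hM, h1, h3.trans_eq (Nat.card_congr eM.toEquiv).symm⟩, hN⟩

/-- If moreover `J` is generated by a section over a `k`-scheme locally of finite type (e.g. by the Abel–Jacobi
section over `X`), then `J/n` is a finite constant sheaf. -/
theorem kummer' (k : Type u) [Field k] [IsAlgClosed k]
    {Xbar Y X : Scheme.{u}} (pbar : Xbar ⟶ Spec (CommRingCat.of k)) [IsProper pbar]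
    (i : Y ⟶ Xbar) [IsClosedImmersion i] [IsFinite (i ≫ pbar)]
    (j : X ⟶ Xbar) [IsOpenImmersion j] (hij : Set.range j.base = (Set.range i.base)ᶜ)
    (hdense : Dense (Set.range j.base)) [SmoothOfRelativeDimension 1 (j ≫ pbar)]
    [EtFppf.ACont Xbar] [EtFppf.ACont (Spec (CommRingCat.of k))]
    (Z : Over (Spec (CommRingCat.of k))) [LocallyOfFiniteType Z.hom]
    (α : ((EtFppf.RpushBig pbar 1).obj (EtDl.GmMod i)).obj.obj (op Z))
    (hα : ∀ (R : EtFppf.AbF (Spec (CommRingCat.of k))) (φ : (EtFppf.RpushBig pbar 1).obj (EtDl.GmMod i) ⟶ R),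
      φ.hom.app (op Z) α = 0 → φ = 0)
    (n : ℕ) (hn : (n : k) ≠ 0) :
    ∃ (M C : Type) (_ : AddCommGroup M) (_ : Finite M) (_ : AddCommGroup C) (_ : Finite C),
      Nonempty (EtDl.constF (Spec (CommRingCat.of k)) M ≅
        kernel (n • 𝟙 ((EtFppf.RpushBig pbar 1).obj (EtDl.GmMod i)))) ∧
      Nonempty (EtDl.constF (Spec (CommRingCat.of k)) C ≅
        cokernel (n • 𝟙 ((EtFppf.RpushBig pbar 1).obj (EtDl.GmMod i)))) ∧
      Finite (EtCoh.H X (EtCoh.const X (ZMod n)) 1) ∧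
      Nat.card (EtCoh.H X (EtCoh.const X (ZMod n)) 1) ≤ Nat.card M := by
  obtain ⟨⟨M, i1, i2, hM, h1, h2⟩, ⟨N, i3, i4, f, hf⟩⟩ := kummer k pbar i j hij hdense n hn
  obtain ⟨C, i5, i6, hC⟩ := KumMain.cokernel_const k _ n N f Z α hα
  exact ⟨M, C, i1, i2, i5, i6, hM, hC, h1, h2⟩

end Groth.Agent.Etdl.H153.KumFinal
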