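import Groth.Agent.Etdl.H153.PushConst
import Groth.Agent.Etdl.H153.DerKum
import Groth.Agent.Etdl.H153.Div
import Groth.Agent.Etdl.H153.ConstSub

/-!
# The `n`-torsion and the cokernel of `n` on `R¹p_* G_m(m)`
-/

set_option autoImplicit false
universe u
open CategoryTheory CategoryTheory.Limits AlgebraicGeometry Opposite

namespace Groth.Agent.Etdl.H153.KumMain

open Groth.Agent.Etdl.H153

theorem epi_nsmul (k : Type u) [Field k] {P Y : Scheme.{u}} (p : P ⟶ Spec (CommRingCat.of k))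
    (i : Y ⟶ P) (n : ℕ) (hn : (n : k) ≠ 0) : Epi (n • 𝟙 (EtDl.GmMod i)) := by
  refine KumBig.epi_nsmul_GmMod i n ?_
  have h1 : IsUnit ((n : ℕ) : Γ(Spec (CommRingCat.of k), ⊤)) := by
    have h2 : IsUnit (n : CommRingCat.of k) := (isUnit_iff_ne_zero (a := (n : k))).2 hn
    have h3 := h2.map (Scheme.ΓSpecIso (CommRingCat.of k)).inv.hom
    rwa [map_natCast] at h3
  have h4 := h1.map p.appTop.hom
  rwa [map_natCast] at h4

variable (k : Type u) [Field k] [IsAlgClosed k]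

/-- The `n`-torsion of `J = R¹p_* G_m(m)` is a finite constant sheaf; `J/n` embeds in a finite constant sheaf. -/
theorem kummer_of {P Y : Scheme.{u}} (p : P ⟶ Spec (CommRingCat.of k)) [IsProper p]
    (i : Y ⟶ P) (n : ℕ) (hn : (n : k) ≠ 0) [EtFppf.ACont P] [EtFppf.ACont (Spec (CommRingCat.of k))]
    (hroot : Div.HasRoots.{u}) (K : EtCoh.Ab P)
    (e : (EtFppf.aPull P).obj K ≅ kernel (n • 𝟙 (EtDl.GmMod i)))
    (hfin : ∀ q, Finite (EtCoh.H P K q))
    (hcomm : ∀ q, Nonempty ((EtFppf.aPull (Spec (CommRingCat.of k))).obj ((EtCoh.Rpush p q).obj K) ≅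
      (EtFppf.RpushBig p q).obj ((EtFppf.aPull P).obj K))) :
    (∃ (M : Type) (_ : AddCommGroup M) (_ : Finite M),
      Nonempty (EtDl.constF (Spec (CommRingCat.of k)) M ≅
        kernel (n • 𝟙 ((EtFppf.RpushBig p 1).obj (EtDl.GmMod i)))) ∧
      Nonempty (M ≃+ EtCoh.H P K 1)) ∧
    (∃ (N : Type) (_ : AddCommGroup N) (_ : Finite N)
      (f : cokernel (n • 𝟙 ((EtFppf.RpushBig p 1).obj (EtDl.GmMod i))) ⟶
        EtDl.constF (Spec (CommRingCat.of k)) N), Mono f) := by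
  have hepi := epi_nsmul k p i n hn
  obtain ⟨M, i1, i2, ⟨φ⟩, hM⟩ := PushConst.exists_const_of_comm p K 1 (hfin 1) (hcomm 1)
  obtain ⟨N, i3, i4, ⟨ψ⟩, -⟩ := PushConst.exists_const_of_comm p K 2 (hfin 2) (hcomm 2)
  refine ⟨⟨M, i1, i2, ?_, hM⟩, ⟨N, i3, i4, ?_⟩⟩
  · obtain ⟨e1⟩ := hcomm 1
    have hδ := DerKum.δ_eq_zero p (EtDl.GmMod i) n ((EtCoh.Rpush p 1).obj K)
      ((EtFppf.RpushBig p 1).mapIso e.symm ≪≫ e1.symm)
      (Div.divisible hroot k p i n hn)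
    obtain ⟨e2⟩ := DerKum.nonempty_kernel_iso (EtFppf.pushBig p) (EtDl.GmMod i) n hδ
    exact ⟨φ.symm ≪≫ (EtFppf.RpushBig p 1).mapIso e ≪≫ e2⟩
  · obtain ⟨f, hf⟩ := DerKum.exists_mono_cokernel (EtFppf.pushBig p) (EtDl.GmMod i) n
    exact ⟨f ≫ ((EtFppf.RpushBig p 2).mapIso e.symm ≪≫ ψ).hom, inferInstance⟩

/-- If moreover `J` is generated by a section over a `k`-scheme locally of finite type, `J/n` is constant. -/
theorem cokernel_const (J : EtFppf.AbF (Spec (CommRingCat.of k))) (n : ℕ) (N : Type)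
    [AddCommGroup N] [Finite N] (f : cokernel (n • 𝟙 J) ⟶ EtDl.constF (Spec (CommRingCat.of k)) N) [Mono f]
    (X : Over (Spec (CommRingCat.of k))) [LocallyOfFiniteType X.hom] (α : J.obj.obj (op X))
    (hα : ∀ (R : EtFppf.AbF (Spec (CommRingCat.of k))) (φ : J ⟶ R), φ.hom.app (op X) α = 0 → φ = 0) :
    ∃ (C : Type) (_ : AddCommGroup C) (_ : Finite C),
      Nonempty (EtDl.constF (Spec (CommRingCat.of k)) C ≅ cokernel (n • 𝟙 J)) := by
  obtain ⟨C, hC⟩ := ConstSub.exists_iso_constF (cokernel (n • 𝟙 J)) N f X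
    ((cokernel.π (n • 𝟙 J)).hom.app (op X) α) (fun R φ h => by
      have h1 : cokernel.π (n • 𝟙 J) ≫ φ = 0 := hα R _ h
      rw [← cancel_epi (cokernel.π (n • 𝟙 J)), h1, comp_zero])
  exact ⟨C, inferInstance, inferInstance, hC⟩

end Groth.Agent.Etdl.H153.KumMain
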