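import Groth.Agent.EtpbcB.GammaRpush
import Groth.Agent.CurvesA.MuConst
import Groth.Agent.Etrest.FppfExact
import Groth.Prelude.Def_EtDlF
import Mathlib.FieldTheory.IsAlgClosed.Basic

/-!
# Sheaves on `Spec k` are constant, and so are the `R^q p_*` of sheaves `a⁻¹ K`
-/

set_option autoImplicit false
universe u
open CategoryTheory CategoryTheory.Limits AlgebraicGeometry Opposite

namespace Groth.Agent.Etdl.H153.PushConst

open Groth.Agent.EtpbcB Groth.Agent.EtpbcB.SepClosedPoint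

variable {k : Type u} [Field k] [IsSepClosed k]

theorem exists_hom_top (V : (Spec (CommRingCat.of k)).Etale) (v : V.left) :
    ∃ s : EtCoh.top (Spec (CommRingCat.of k)) ⟶ V,
      ∃ w : (EtCoh.top (Spec (CommRingCat.of k))).left, s.left w = v := by
  obtain ⟨l, hl, hl'⟩ := Scheme.exists_fac_of_etale_of_isSepClosed V.hom (𝟙 (Spec (CommRingCat.of k))) v
    (Subsingleton.elim (α := Spec (CommRingCat.of k)) _ _)
  exact ⟨MorphismProperty.Over.homMk l hl trivial, (default : Spec (CommRingCat.of k)), hl'⟩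

/-- A sheaf on the spectrum of a separably closed field is constant. -/
theorem nonempty_iso_const (F : EtCoh.Ab (Spec (CommRingCat.of k))) (M : Type) [AddCommGroup M]
    (e : EtCoh.sect F (EtCoh.top (Spec (CommRingCat.of k))) ≃+ M) :
    Nonempty (EtCoh.const (Spec (CommRingCat.of k)) M ≅ F) := by
  refine Groth.Agent.CurvesA.MuConst.nonempty_iso_const F M e.symm.toAddMonoidHom ?_ ?_
  · rintro U ⟨v⟩ m hm
    obtain ⟨s, -, -⟩ := exists_hom_top U v
    have h1 := congrArg (F.obj.map s.op) hm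
    rw [map_zero, ← ConcreteCategory.comp_apply, ← F.obj.map_comp, ← op_comp,
      hom_top_unique (s ≫ Groth.Agent.CurvesA.MuConst.toTop U) (𝟙 _)] at h1
    have h2 : e.symm m = 0 := by
      simpa using h1
    exact (map_eq_zero_iff e.symm e.symm.injective).1 h2
  · intro U t x
    obtain ⟨s, w, hw⟩ := exists_hom_top U x
    refine ⟨_, s, w, e (F.obj.map s.op t), hw, ?_⟩
    rw [hom_top_unique (Groth.Agent.CurvesA.MuConst.toTop _) (𝟙 _)]
    simp

/-- `R^q p_* (a⁻¹ K)` is a finite constant sheaf on `Spec k` if `a⁻¹` commutes with `R^q p_*` at `K`. -/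
theorem exists_const_of_comm {P : Scheme.{u}}
    (p : P ⟶ Spec (CommRingCat.of k)) [EtFppf.ACont P] [EtFppf.ACont (Spec (CommRingCat.of k))]
    (K : EtCoh.Ab P) (q : ℕ) (hfin : Finite (EtCoh.H P K q))
    (hcomm : Nonempty ((EtFppf.aPull (Spec (CommRingCat.of k))).obj ((EtCoh.Rpush p q).obj K) ≅
      (EtFppf.RpushBig p q).obj ((EtFppf.aPull P).obj K))) :
    ∃ (M : Type) (_ : AddCommGroup M) (_ : Finite M),
      Nonempty ((EtFppf.RpushBig p q).obj ((EtFppf.aPull P).obj K) ≅ EtDl.constF (Spec (CommRingCat.of k)) M) ∧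
      Nonempty (M ≃+ EtCoh.H P K q) := by
  obtain ⟨e⟩ := GammaRpush.gamma_Rpush p K q
  obtain ⟨M, i1, i2, ⟨e2⟩⟩ := Finite.exists_type_univ_nonempty_addEquiv.{u + 1, 0} (EtCoh.H P K q)
  let i3 : AddCommGroup M :=
    { i1 with
      add_comm := by
        intro a b
        obtain ⟨a, rfl⟩ := e2.surjective a
        obtain ⟨b, rfl⟩ := e2.surjective b
        rw [← map_add, ← map_add, add_comm] }
  let e2' : EtCoh.H P K q ≃+ M := e2
  obtain ⟨φ⟩ := nonempty_iso_const ((EtCoh.Rpush p q).obj K) M (e.trans e2')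
  obtain ⟨ψ⟩ := hcomm
  refine ⟨M, i3, inferInstance, ⟨ψ.symm ≪≫ (EtFppf.aPull (Spec (CommRingCat.of k))).mapIso φ.symm ≪≫
    Groth.Agent.Etrest.FppfExact.constIso (X := Spec (CommRingCat.of k)) _⟩, ⟨e2'.symm⟩⟩

end Groth.Agent.Etdl.H153.PushConst
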